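import Groth.Agent.ZBSymTen.Cover
import Mathlib.RingTheory.MvPolynomial.Homogeneous
import Mathlib.Algebra.Algebra.Operations
import Mathlib.RingTheory.LittleWedderburn

/-!
# The three covering statements for symmetric products of projective schemes
-/

universe u

open scoped TensorProduct
open Finset

namespace Groth.Agent.ZBSymTen.Cover

variable {A B : Type u} [CommRing A] [CommRing B] [Algebra A B]
  (𝒜 : ℕ → Submodule A B) [GradedAlgebra 𝒜] {d : ℕ}

theorem succ_le_mul (hgen : Algebra.adjoin A (𝒜 1 : Set B) = ⊤) (k : ℕ) :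
    𝒜 (k + 1) ≤ 𝒜 1 * 𝒜 k := by
  intro x hx
  have hspan : x ∈ Submodule.span A (Submonoid.closure (𝒜 1 : Set B) : Set B) := by
    rw [← Algebra.adjoin_eq_span, hgen]; trivial
  have hπ : GradedAlgebra.proj 𝒜 (k + 1) x = x := DirectSum.decompose_of_mem_same 𝒜 hx
  rw [← hπ]
  have h : Submodule.span A (Submonoid.closure (𝒜 1 : Set B) : Set B) ≤
      Submodule.comap (GradedAlgebra.proj 𝒜 (k + 1)) (𝒜 1 * 𝒜 k) := by
    refine Submodule.span_le.2 fun y hy => ?_
    have key : y ∈ 𝒜 0 ∨ ∃ n, y ∈ 𝒜 (n + 1) ∧ y ∈ 𝒜 1 * 𝒜 n := by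
      refine Submonoid.closure_induction_left (motive := fun y _ => y ∈ 𝒜 0 ∨ ∃ n, y ∈ 𝒜 (n + 1) ∧ y ∈ 𝒜 1 * 𝒜 n)
        (Or.inl SetLike.GradedOne.one_mem) (fun a ha b _ hb => Or.inr ?_) hy
      obtain ⟨n, hn⟩ : ∃ n, b ∈ 𝒜 n := hb.elim (fun h => ⟨0, h⟩) fun ⟨n, h, _⟩ => ⟨n + 1, h⟩
      exact ⟨n, by rw [add_comm n 1]; exact SetLike.mul_mem_graded ha hn, Submodule.mul_mem_mul ha hn⟩
    show GradedAlgebra.proj 𝒜 (k + 1) y ∈ 𝒜 1 * 𝒜 k
    rcases key with h0 | ⟨n, hn, hy'⟩
    · rw [GradedAlgebra.proj_apply, DirectSum.decompose_of_mem_ne 𝒜 h0 (by omega)]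
      exact zero_mem _
    · rcases eq_or_ne n k with rfl | hne
      · rw [GradedAlgebra.proj_apply, DirectSum.decompose_of_mem_same 𝒜 hn]
        exact hy'
      · rw [GradedAlgebra.proj_apply, DirectSum.decompose_of_mem_ne 𝒜 hn (by omega)]
        exact zero_mem _
  exact h hspan

variable {K : Type u} [Field K] (g : Cc 𝒜 d →+* K)

theorem exists_base (hgen : Algebra.adjoin A (𝒜 1 : Set B) = ⊤) :
    ∀ (k : ℕ) (b : Fin d → B) (hb : ∀ i, b i ∈ 𝒜 (k + 1)), g (pure 𝒜 b hb) ≠ 0 →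
      ∃ (b₀ : Fin d → B) (hb₀ : ∀ i, b₀ i ∈ 𝒜 1), g (pure 𝒜 b₀ hb₀) ≠ 0 := by
  intro k
  induction k with
  | zero => exact fun b hb h => ⟨b, hb, h⟩
  | succ k ih =>
    intro b hb hne
    have hmem : ∀ i, ∃ (n : ℕ) (a : Fin n → A) (c e : Fin n → B),
        (∀ l, c l ∈ 𝒜 1) ∧ (∀ l, e l ∈ 𝒜 (k + 1)) ∧ ∑ l, a l • (c l * e l) = b i := by
      intro i
      have h := succ_le_mul 𝒜 hgen (k + 1) (hb i)
      rw [Submodule.mul_eq_span_mul_set] at h
      obtain ⟨n, a, x, hx⟩ := Submodule.mem_span_set'.1 h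
      choose c hc e he hce using fun l => Set.mem_mul.1 (x l).2
      exact ⟨n, a, c, e, hc, he, by simp_rw [hce]; exact hx⟩
    choose n a c e hc he hsum using hmem
    by_contra hcon
    refine hne ?_
    have hval : pure 𝒜 b hb = ∑ r : ∀ i, Fin (n i), (∏ i, a i (r i)) •
        (pure 𝒜 (fun i => c i (r i)) (fun i => hc i _) *
          pure 𝒜 (fun i => e i (r i)) (fun i => he i _)) := by
      refine Subtype.ext ?_
      rw [AddSubmonoidClass.coe_finsetSum]
      show PiTensorProduct.tprod A b = _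
      rw [show b = fun i => ∑ l, a i l • (c i l * e i l) from funext fun i => (hsum i).symm]
      refine ((PiTensorProduct.tprod A).map_sum fun i l => a i l • (c i l * e i l)).trans ?_
      refine Finset.sum_congr rfl fun r _ => ?_
      refine ((PiTensorProduct.tprod A).map_smul_univ _ _).trans ?_
      simp only [pure, Subalgebra.coe_smul, Subalgebra.coe_mul, PiTensorProduct.tprod_mul_tprod]
      rfl
    rw [hval, map_sum]
    refine Finset.sum_eq_zero fun r _ => ?_
    rw [Algebra.smul_def, map_mul, map_mul]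
    have : g (pure 𝒜 (fun i => c i (r i)) fun i => hc i _) = 0 := by
      by_contra h
      exact hcon ⟨_, _, h⟩
    rw [this, zero_mul, mul_zero]

theorem exists_base_of_span (hgen : Algebra.adjoin A (𝒜 1 : Set B) = ⊤) {k : ℕ} (hk : 0 < k)
    (t : Cc 𝒜 d) (ht : t.1 ∈ Submodule.span A
      {s | ∃ b : Fin d → B, (∀ i, b i ∈ 𝒜 k) ∧ s = PiTensorProduct.tprod A b})
    (h : g t ≠ 0) :
    ∃ (b₀ : Fin d → B) (hb₀ : ∀ i, b₀ i ∈ 𝒜 1), g (pure 𝒜 b₀ hb₀) ≠ 0 := by
  obtain ⟨k, rfl⟩ := Nat.exists_eq_add_of_lt hk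
  simp only [zero_add] at ht
  obtain ⟨n, a, x, hx⟩ := Submodule.mem_span_set'.1 ht
  choose b hb hxb using fun l => (x l).2
  have hval : t = ∑ l, a l • pure 𝒜 (b l) (hb l) := by
    refine Subtype.ext ?_
    rw [AddSubmonoidClass.coe_finsetSum, ← hx]
    exact Finset.sum_congr rfl fun l _ => congrArg (a l • ·) (hxb l)
  rw [hval, map_sum] at h
  obtain ⟨l, -, hl⟩ := Finset.exists_ne_zero_of_sum_ne_zero h
  rw [Algebra.smul_def, map_mul] at hl
  exact exists_base 𝒜 g hgen k _ _ (right_ne_zero_of_mul hl)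

variable {b₀ : Fin d → B} (hb₀ : ∀ i, b₀ i ∈ 𝒜 1) (h₀ : g (pure 𝒜 b₀ hb₀) ≠ 0)

/-- Evaluation of a homogeneous element in a slot, on an element of `B`. -/
def Avoids (i : Fin d) (n : ℕ) (f : B) : Prop :=
  ∃ hf : f ∈ 𝒜 n, val 𝒜 g hb₀ i ⟨f, hf⟩ ≠ 0

theorem avoids_mul {i : Fin d} {n m : ℕ} {f f' : B} (h : Avoids 𝒜 g hb₀ i n f)
    (h' : Avoids 𝒜 g hb₀ i m f') : Avoids 𝒜 g hb₀ i (n + m) (f * f') := by
  obtain ⟨hf, hv⟩ := h
  obtain ⟨hf', hv'⟩ := h'
  exact ⟨SetLike.mul_mem_graded hf hf', by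
    rw [val_mul 𝒜 g hb₀ i ⟨f, hf⟩ ⟨f', hf'⟩]; exact mul_ne_zero hv hv'⟩

theorem val_mul_eq_zero {i : Fin d} {n m : ℕ} {f f' : B} (hf : f ∈ 𝒜 n) (hf' : f' ∈ 𝒜 m)
    (h : ¬ Avoids 𝒜 g hb₀ i n f) : ¬ Avoids 𝒜 g hb₀ i (n + m) (f * f') := by
  rintro ⟨_, hne⟩
  refine h ⟨hf, fun h0 => hne ?_⟩
  rw [val_mul 𝒜 g hb₀ i ⟨f, hf⟩ ⟨f', hf'⟩, h0, zero_mul]

theorem val_mk (i : Fin d) {n n' : ℕ} {f : B} (e : n = n') (hf : f ∈ 𝒜 n) (hf' : f ∈ 𝒜 n') :
    val 𝒜 g hb₀ i ⟨f, hf⟩ = val 𝒜 g hb₀ i ⟨f, hf'⟩ := by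
  subst e; rfl

include h₀ in
/-- Finitely many points of a projective scheme lie in one basic open. -/
theorem exists_avoid (s : Finset (Fin d)) :
    ∃ (n : ℕ) (f : B), 0 < n ∧ f ∈ 𝒜 n ∧ ∀ i ∈ s, Avoids 𝒜 g hb₀ i n f := by
  classical
  induction s using Finset.strongInduction with
  | _ s ih =>
    by_cases hcmp : ∃ i ∈ s, ∃ j ∈ s, i ≠ j ∧
        ∀ n f, 0 < n → Avoids 𝒜 g hb₀ j n f → Avoids 𝒜 g hb₀ i n f
    · obtain ⟨i, hi, j, hj, hij, hsub⟩ := hcmp
      obtain ⟨n, f, hn, hf, h⟩ := ih _ (Finset.erase_ssubset hi)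
      refine ⟨n, f, hn, hf, fun l hl => ?_⟩
      rcases eq_or_ne l i with rfl | hne
      · exact hsub n f hn (h j (Finset.mem_erase.2 ⟨hij.symm, hj⟩))
      · exact h l (Finset.mem_erase.2 ⟨hne, hl⟩)
    push Not at hcmp
    have hsep : ∀ j ∈ s, ∀ u ⊆ s.erase j, ∃ (n : ℕ) (f : B), 0 < n ∧ f ∈ 𝒜 n ∧
        Avoids 𝒜 g hb₀ j n f ∧ ∀ i ∈ u, ¬ Avoids 𝒜 g hb₀ i n f := by
      intro j hj u
      induction u using Finset.induction_on with
      | empty =>
        exact fun _ => ⟨1, b₀ j, one_pos, hb₀ j, ⟨hb₀ j, by rwa [val_base]⟩, fun i hi => by simp at hi⟩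
      | insert i u _ ih' =>
        intro hu
        obtain ⟨n, f, hn, hf, hj', hu'⟩ := ih' ((Finset.subset_insert i u).trans hu)
        have hi := Finset.mem_erase.1 (hu (Finset.mem_insert_self i u))
        obtain ⟨m, f', hm, hj'', hi'⟩ := hcmp i hi.2 j hj hi.1
        refine ⟨n + m, f * f', by omega, SetLike.mul_mem_graded hf hj''.1,
          avoids_mul 𝒜 g hb₀ hj' hj'', fun l hl => ?_⟩
        rcases Finset.mem_insert.1 hl with rfl | hl
        · rw [add_comm, mul_comm f]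
          exact val_mul_eq_zero 𝒜 g hb₀ hj''.1 hf hi'
        · exact val_mul_eq_zero 𝒜 g hb₀ hf hj''.1 (hu' l hl)
    choose n f hn hf hav hna using fun j : s => hsep j.1 j.2 _ Finset.Subset.rfl
    let N := ∏ j, n j
    have hdvd : ∀ j, n j ∣ N := fun j => Finset.dvd_prod_of_mem n (Finset.mem_univ j)
    have hNpos : 0 < N := Finset.prod_pos fun j _ => hn j
    have hpow : ∀ j, f j ^ (N / n j) ∈ 𝒜 N := fun j => by
      have := SetLike.pow_mem_graded (N / n j) (hf j)
      rwa [smul_eq_mul, Nat.div_mul_cancel (hdvd j)] at this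
    refine ⟨N, ∑ j, f j ^ (N / n j), hNpos, sum_mem fun j _ => hpow j, fun i hi => ?_⟩
    refine ⟨sum_mem fun j _ => hpow j, ?_⟩
    have hv : ∀ j (hm : f j ∈ 𝒜 (n j)) (e : ℕ) (hme : f j ^ e ∈ 𝒜 (e * n j)),
        val 𝒜 g hb₀ i ⟨f j ^ e, hme⟩ = val 𝒜 g hb₀ i ⟨f j, hm⟩ ^ e := by
      intro j hm e
      induction e with
      | zero =>
        intro hme
        refine ((congrArg g (Subtype.ext ?_)).trans (map_one g)).trans (pow_zero _).symm
        rw [OneMemClass.coe_one, PiTensorProduct.one_def]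
        refine congrArg (PiTensorProduct.tprod A) (funext fun l => ?_)
        simp [Function.update_apply]
      | succ e ih =>
        intro hme
        have hme' : f j ^ e ∈ 𝒜 (e * n j) := by simpa using SetLike.pow_mem_graded e hm
        rw [pow_succ (val 𝒜 g hb₀ i ⟨f j, hm⟩), ← ih hme',
          ← val_mul 𝒜 g hb₀ i ⟨f j ^ e, hme'⟩ ⟨f j, hm⟩]
        simp_rw [pow_succ]
        exact val_mk 𝒜 g hb₀ i (by ring) _ _
    have hv' : ∀ j, val 𝒜 g hb₀ i ⟨f j ^ (N / n j), hpow j⟩ =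
        val 𝒜 g hb₀ i ⟨f j, hf j⟩ ^ (N / n j) := fun j => by
      have hme : f j ^ (N / n j) ∈ 𝒜 (N / n j * n j) := by
        rw [Nat.div_mul_cancel (hdvd j)]; exact hpow j
      rw [← hv j (hf j) _ hme]
      exact val_mk 𝒜 g hb₀ i (Nat.div_mul_cancel (hdvd j)).symm _ _
    have hsum : (⟨∑ j, f j ^ (N / n j), sum_mem fun j _ => hpow j⟩ : 𝒜 N) =
        ∑ j, ⟨f j ^ (N / n j), hpow j⟩ := Subtype.ext (by simp)
    rw [hsum, val_sum, Finset.sum_eq_single (⟨i, hi⟩ : s), hv']
    · exact pow_ne_zero _ (hav ⟨i, hi⟩).2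
    · intro j _ hj
      have : val 𝒜 g hb₀ i ⟨f j, hf j⟩ = 0 := by
        by_contra h
        exact hna j i (Finset.mem_erase.2 ⟨fun h' => hj (Subtype.ext h'.symm), hi⟩) ⟨hf j, h⟩
      rw [hv', this, zero_pow]
      exact (Nat.div_pos (Nat.le_of_dvd hNpos (hdvd j)) (hn j)).ne'
    · intro h; exact absurd (Finset.mem_univ _) h

include h₀ in
/-- If the residue fields are large, some degree-one element avoids finitely many points. -/
theorem exists_avoid_one
    (hres : ∀ p : PrimeSpectrum A, (d : Cardinal) ≤ Cardinal.mk p.asIdeal.ResidueField)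
    (s : Finset (Fin d)) : ∃ f : 𝒜 1, ∀ i ∈ s, val 𝒜 g hb₀ i f ≠ 0 := by
  classical
  induction s using Finset.induction_on with
  | empty => exact ⟨0, by simp⟩
  | insert j s hj ih =>
    obtain ⟨x, hx⟩ := ih
    by_cases hxj : val 𝒜 g hb₀ j x = 0
    swap
    · exact ⟨x, fun i hi => by
        rcases Finset.mem_insert.1 hi with rfl | hi
        exacts [hxj, hx i hi]⟩
    let r : A →+* K := g.comp (algebraMap A (Cc 𝒜 d))
    let p : PrimeSpectrum A := ⟨RingHom.ker r, RingHom.ker_isPrime r⟩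
    have := p.isPrime
    obtain ⟨a, ha⟩ : ∃ a : Fin d → A, Function.Injective fun l => r (a l) := by
      let F : A ⧸ p.asIdeal →+* p.asIdeal.ResidueField := algebraMap _ _
      have hemb : ∃ e : Fin d → A ⧸ p.asIdeal, Function.Injective e := by
        rcases finite_or_infinite (A ⧸ p.asIdeal) with hfin | hinf
        · have hfield := (Finite.isDomain_to_isField (A ⧸ p.asIdeal))
          have hsurj : Function.Surjective F :=
            IsFractionRing.surjective_iff_isField.2 hfield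
          have hbij : Function.Bijective F :=
            ⟨IsFractionRing.injective (A ⧸ p.asIdeal) p.asIdeal.ResidueField, hsurj⟩
          have h := hres p
          rw [← Cardinal.mk_congr (Equiv.ofBijective _ hbij), ← Nat.cast_card, Nat.cast_le] at h
          exact ⟨(Finite.equivFin _).symm ∘ Fin.castLE h,
            (Finite.equivFin _).symm.injective.comp (Fin.castLE_injective h)⟩
        · exact ⟨Infinite.natEmbedding _ ∘ Fin.val,
            (Infinite.natEmbedding _).injective.comp Fin.val_injective⟩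
      obtain ⟨e, he⟩ := hemb
      choose a ha using fun l => Ideal.Quotient.mk_surjective (e l)
      refine ⟨a, fun l l' h => he ?_⟩
      rw [← ha l, ← ha l', Ideal.Quotient.eq]
      show a l - a l' ∈ RingHom.ker r
      rw [RingHom.mem_ker, map_sub, sub_eq_zero]
      exact h
    let y : 𝒜 1 := ⟨b₀ j, hb₀ j⟩
    have hy : val 𝒜 g hb₀ j y ≠ 0 := by rwa [val_base]
    have hv : ∀ i l, val 𝒜 g hb₀ i (y + a l • x) =
        val 𝒜 g hb₀ i y + r (a l) * val 𝒜 g hb₀ i x := fun i l => by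
      rw [val_add, val_smul]; rfl
    by_contra! hcon
    choose i hi h0 using fun l => hcon (y + a l • x)
    have hne : ∀ l, i l ≠ j := fun l h => by
      have := h0 l
      rw [h, hv, hxj, mul_zero, add_zero] at this
      exact hy this
    have hmem : ∀ l, i l ∈ s := fun l => Finset.mem_of_mem_insert_of_ne (hi l) (hne l)
    have hinj : Function.Injective i := fun l l' h => by
      apply ha
      have h1 := h0 l
      have h2 := h0 l'
      rw [hv] at h1 h2
      rw [← h] at h2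
      exact mul_right_cancel₀ (hx _ (hmem l)) (add_left_cancel (h1.trans h2.symm))
    have h3 := Finset.card_le_card_of_injOn i (s := (Finset.univ : Finset (Fin d))) (t := s)
      (fun l _ => hmem l) hinj.injOn
    have h4 : (insert j s).card ≤ d := by
      simpa using Finset.card_le_univ (insert j s)
    rw [Finset.card_insert_of_notMem hj] at h4
    simp at h3
    omega

include h₀ in
/-- Some invariant tensor of degree one does not vanish at a point. -/
theorem exists_invariant (hfg : (𝒜 1).FG) :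
    ∃ x : Cc 𝒜 d, x.1 ∈ Submodule.span A
      {s | ∃ b : Fin d → B, (∀ i, b i ∈ 𝒜 1) ∧ s = PiTensorProduct.tprod A b} ∧
      x.1 ∈ SymTen.TS A B d ∧ g x ≠ 0 := by
  classical
  obtain ⟨N, x, hx⟩ := Submodule.fg_iff_exists_fin_generating_family.1 hfg
  have hxm : ∀ j, x j ∈ 𝒜 1 := fun j => by rw [← hx]; exact Submodule.subset_span ⟨j, rfl⟩
  let P : MvPolynomial (Fin N) K :=
    ∏ i : Fin d, ∑ j, MvPolynomial.C (val 𝒜 g hb₀ i ⟨x j, hxm j⟩) * MvPolynomial.X j
  have hP : P ≠ 0 := by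
    refine Finset.prod_ne_zero_iff.2 fun i _ h => ?_
    have hz : ∀ j, val 𝒜 g hb₀ i ⟨x j, hxm j⟩ = 0 := fun j => by
      have h' := congrArg (MvPolynomial.eval (fun l => if l = j then (1 : K) else 0)) h
      simpa using h'
    have : ∀ y (hy : y ∈ 𝒜 1), val 𝒜 g hb₀ i ⟨y, hy⟩ = 0 := by
      intro y hy
      rw [← hx] at hy
      obtain ⟨c, rfl⟩ := (Submodule.mem_span_range_iff_exists_fun A).1 hy
      have e : (⟨∑ l, c l • x l, hx ▸ hy⟩ : 𝒜 1) = ∑ l, c l • ⟨x l, hxm l⟩ := Subtype.ext (by simp)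
      rw [e, val_sum]
      exact Finset.sum_eq_zero fun l _ => by rw [val_smul, hz, mul_zero]
    exact h₀ ((val_base 𝒜 g hb₀ i).symm.trans (this _ _))
  obtain ⟨α, hα⟩ := MvPolynomial.ne_zero_iff.1 hP
  let S : Finset (Fin d → Fin N) :=
    Finset.univ.filter fun c => ∑ i, Finsupp.single (c i) 1 = α
  let z : Cc 𝒜 d := ∑ c ∈ S, pure 𝒜 (fun i => x (c i)) fun i => hxm _
  refine ⟨z, ?_, ?_, fun hz => ?_⟩
  · rw [show z.1 = ∑ c ∈ S, PiTensorProduct.tprod A fun i => x (c i) by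
      simp only [z, AddSubmonoidClass.coe_finsetSum]; rfl]
    exact sum_mem fun c _ => Submodule.subset_span ⟨_, fun i => hxm _, rfl⟩
  · intro σ
    simp only [z, AddSubmonoidClass.coe_finsetSum, pure, map_sum, PiTensorProduct.reindex_tprod]
    refine Finset.sum_nbij' (fun c => c ∘ σ.symm) (fun c => c ∘ σ) ?_ ?_ ?_ ?_ fun c _ => rfl
    · intro c hc
      simp only [S, Finset.mem_filter, Finset.mem_univ, true_and,
        Function.comp_apply] at hc ⊢
      exact (Equiv.sum_comp σ.symm fun i => Finsupp.single (c i) 1).trans hc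
    · intro c hc
      simp only [S, Finset.mem_filter, Finset.mem_univ, true_and,
        Function.comp_apply] at hc ⊢
      exact (Equiv.sum_comp σ fun i => Finsupp.single (c i) 1).trans hc
    · intro c _; funext i; simp
    · intro c _; funext i; simp
  · refine hα ?_
    have hexp : P = ∑ c : Fin d → Fin N, MvPolynomial.monomial (∑ i, Finsupp.single (c i) 1)
        (∏ i, val 𝒜 g hb₀ i ⟨x (c i), hxm _⟩) := by
      simp only [P, Fintype.prod_sum]
      refine Finset.sum_congr rfl fun c _ => ?_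
      simp only [MvPolynomial.C_mul_X_eq_monomial, MvPolynomial.monomial_sum_prod]
    rw [hexp, MvPolynomial.coeff_sum]
    simp only [MvPolynomial.coeff_monomial]
    rw [← Finset.sum_filter]
    rcases Nat.eq_zero_or_pos d with rfl | hd
    · exfalso
      have hS : S = Finset.univ := Finset.eq_univ_of_forall fun c => by
        simp only [S, Finset.mem_filter, Finset.mem_univ, true_and]
        have : P.coeff α = (1 : MvPolynomial (Fin N) K).coeff α := by simp [P]
        rw [this, MvPolynomial.coeff_one] at hα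
        simp only [ne_eq, ite_eq_right_iff, one_ne_zero, imp_false, not_not] at hα
        simp [hα.symm]
      refine one_ne_zero (α := K) ?_
      rw [← map_one g, ← hz]
      refine congrArg g (Subtype.ext ?_)
      simp only [z, hS, pure, Finset.univ_unique,
        Finset.sum_singleton, OneMemClass.coe_one, PiTensorProduct.one_def]
      exact congrArg _ (funext fun i => i.elim0)
    · rw [Finset.sum_congr rfl fun c _ => prod_val 𝒜 g hb₀ (fun i => (⟨x (c i), hxm _⟩ : 𝒜 1)) hd,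
        ← Finset.sum_mul]
      rw [show (∑ c ∈ Finset.univ.filter (fun c : Fin d → Fin N =>
          ∑ i, Finsupp.single (c i) 1 = α), g (pure 𝒜 (fun i => x (c i)) fun i => hxm _)) = g z
          from (map_sum g _ _).symm, hz, zero_mul]

end Groth.Agent.ZBSymTen.Cover
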