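import Groth.Prelude.Def_SymTen
import Mathlib.Algebra.Colimit.Module
import Mathlib.Data.Fintype.Order

/-!
# Tensor powers and symmetric tensors commute with directed limits
-/

universe u

open scoped TensorProduct

namespace Groth.Agent.ZBSymTen.DirLim

variable {A : Type u} [CommRing A] {B : Type u} [CommRing B] [Algebra A B]
  {ι : Type u} [Preorder ι]
  {Bi : ι → Type u} [∀ i, CommRing (Bi i)] [∀ i, Algebra A (Bi i)]
  (t : ∀ i j : ι, i ≤ j → (Bi i →ₐ[A] Bi j)) (φ : ∀ i : ι, Bi i →ₐ[A] B)

theorem tmap_comp {C D E : Type u} [CommRing C] [Algebra A C] [CommRing D] [Algebra A D]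
    [CommRing E] [Algebra A E] (d : ℕ) (f : C →ₐ[A] D) (g : D →ₐ[A] E) (z : ⨂[A] _ : Fin d, C) :
    SymTen.tmap A d g (SymTen.tmap A d f z) = SymTen.tmap A d (g.comp f) z := by
  induction z using PiTensorProduct.induction_on with
  | smul_tprod r x => simp
  | add x y hx hy => simp [hx, hy]

theorem tmap_id {C : Type u} [CommRing C] [Algebra A C] (d : ℕ) (z : ⨂[A] _ : Fin d, C) :
    SymTen.tmap A d (AlgHom.id A C) z = z := by
  induction z using PiTensorProduct.induction_on with
  | smul_tprod r x => simp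
  | add x y hx hy => simp [hx, hy]

/-- The hypotheses of a directed limit of algebras. -/
structure IsLim : Prop where
  comp : ∀ (i j : ι) (h : i ≤ j), (φ j).comp (t i j h) = φ i
  surj : ∀ b : B, ∃ (i : ι) (x : Bi i), φ i x = b
  zero : ∀ (i : ι) (x : Bi i), φ i x = 0 → ∃ (j : ι) (h : i ≤ j), t i j h x = 0
  refl : ∀ (i : ι) (h : i ≤ i), t i i h = AlgHom.id A (Bi i)
  trans : ∀ (i j k : ι) (hij : i ≤ j) (hjk : j ≤ k),
    (t j k hjk).comp (t i j hij) = t i k (hij.trans hjk)

variable {t φ} (H : IsLim t φ) (d : ℕ)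
include H

theorem tr {i j k : ι} (hij : i ≤ j) (hjk : j ≤ k) (x : Bi i) :
    t j k hjk (t i j hij x) = t i k (hij.trans hjk) x :=
  AlgHom.congr_fun (H.trans i j k hij hjk) x

theorem phi_t {i j : ι} (h : i ≤ j) (x : Bi i) : φ j (t i j h x) = φ i x :=
  AlgHom.congr_fun (H.comp i j h) x

variable [IsDirected ι (fun i j => i ≤ j)] [Nonempty ι]

theorem exists_lift {κ : Type*} [Finite κ] (b : κ → B) :
    ∃ (i : ι) (x : κ → Bi i), ∀ k, φ i (x k) = b k := by
  choose i x hx using fun k => H.surj (b k)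
  obtain ⟨m, hm⟩ := Finite.exists_le i
  exact ⟨m, fun k => t (i k) m (hm k) (x k), fun k => by rw [phi_t H, hx]⟩

theorem exists_eq {κ : Type*} [Finite κ] {i : ι} (x y : κ → Bi i)
    (h : ∀ k, φ i (x k) = φ i (y k)) :
    ∃ (j : ι) (hij : i ≤ j), ∀ k, t i j hij (x k) = t i j hij (y k) := by
  choose j hj h0 using fun k => H.zero i (x k - y k) (by rw [map_sub, h k, sub_self])
  obtain ⟨m, hm⟩ := Finite.exists_le j
  obtain ⟨m', hm', him⟩ := directed_of (fun i j => i ≤ j) m i
  refine ⟨m', him, fun k => sub_eq_zero.1 ?_⟩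
  rw [← map_sub, ← tr H (hj k) ((hm k).trans hm'), h0 k, map_zero]

omit [IsDirected ι (fun i j => i ≤ j)] [Nonempty ι] in
theorem directedSystem :
    DirectedSystem (fun i => ⨂[A] _ : Fin d, Bi i)
      (fun i j h => ((SymTen.tmap A d (t i j h)).toLinearMap :
        (⨂[A] _ : Fin d, Bi i) → ⨂[A] _ : Fin d, Bi j)) where
  map_self i z := by
    show SymTen.tmap A d (t i i le_rfl) z = z
    rw [H.refl, tmap_id]
  map_map k j i hij hjk z := by
    show SymTen.tmap A d (t j k hjk) (SymTen.tmap A d (t i j hij) z) = _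
    rw [tmap_comp, H.trans]
    rfl

open Classical in
/-- The directed limit of the tensor powers. -/
abbrev L : Type u :=
  Module.DirectLimit (fun i => ⨂[A] _ : Fin d, Bi i)
    (fun i j h => (SymTen.tmap A d (t i j h)).toLinearMap)

open Classical in
theorem of_tprod_eq {i j : ι} (x : Fin d → Bi i) (y : Fin d → Bi j)
    (h : ∀ k, φ i (x k) = φ j (y k)) :
    (Module.DirectLimit.of A ι (fun i => ⨂[A] _ : Fin d, Bi i)
      (fun i j h => (SymTen.tmap A d (t i j h)).toLinearMap) i (PiTensorProduct.tprod A x) : L (t := t) d) =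
    Module.DirectLimit.of A ι (fun i => ⨂[A] _ : Fin d, Bi i)
      (fun i j h => (SymTen.tmap A d (t i j h)).toLinearMap) j (PiTensorProduct.tprod A y) := by
  obtain ⟨m, him, hjm⟩ := directed_of (fun i j => i ≤ j) i j
  obtain ⟨n, hmn, hn⟩ := exists_eq H (fun k => t i m him (x k)) (fun k => t j m hjm (y k))
    fun k => by rw [phi_t H, phi_t H, h k]
  rw [← Module.DirectLimit.of_f (hij := him.trans hmn),
    ← Module.DirectLimit.of_f (i := j) (hij := hjm.trans hmn)]
  simp only [AlgHom.toLinearMap_apply, SymTen.tmap_tprod]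
  congr 2
  funext k
  rw [← tr H him hmn, ← tr H hjm hmn, hn k]

open Classical in
/-- A family of elements as a class in the limit of the tensor powers. -/
noncomputable def classOf (b : Fin d → B) : L (t := t) d :=
  Module.DirectLimit.of A ι (fun i => ⨂[A] _ : Fin d, Bi i)
    (fun i j h => (SymTen.tmap A d (t i j h)).toLinearMap)
    (exists_lift H b).choose (PiTensorProduct.tprod A (exists_lift H b).choose_spec.choose)

open Classical in
theorem classOf_eq {i : ι} (x : Fin d → Bi i) :
    classOf H d (fun k => φ i (x k)) = Module.DirectLimit.of A ι (fun i => ⨂[A] _ : Fin d, Bi i)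
      (fun i j h => (SymTen.tmap A d (t i j h)).toLinearMap) i (PiTensorProduct.tprod A x) :=
  of_tprod_eq H d _ _ fun k => (exists_lift H fun k => φ i (x k)).choose_spec.choose_spec k

/-- The multilinear map into the limit of the tensor powers. -/
noncomputable def classMul : MultilinearMap A (fun _ : Fin d => B) (L (t := t) d) where
  toFun := classOf H d
  map_update_add' {dec} b k p q := by
    obtain ⟨i, x, hx⟩ := exists_lift H (fun s : Fin d ⊕ Fin 2 => Sum.elim b ![p, q] s)
    have key : ∀ z : Bi i, Function.update b k (φ i z) =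
        fun l => φ i (Function.update (fun l => x (Sum.inl l)) k z l) := fun z => by
      funext l
      rcases eq_or_ne l k with rfl | hl
      · simp
      · simp [hl, hx]
    have hp : φ i (x (Sum.inr 0)) = p := by simpa using hx (Sum.inr 0)
    have hq : φ i (x (Sum.inr 1)) = q := by simpa using hx (Sum.inr 1)
    rw [← hp, ← hq, ← map_add, key, key, key, classOf_eq H d, classOf_eq H d, classOf_eq H d,
      ← map_add, MultilinearMap.map_update_add]
  map_update_smul' {dec} b k c p := by
    obtain ⟨i, x, hx⟩ := exists_lift H (fun s : Fin d ⊕ Fin 1 => Sum.elim b ![p] s)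
    have key : ∀ z : Bi i, Function.update b k (φ i z) =
        fun l => φ i (Function.update (fun l => x (Sum.inl l)) k z l) := fun z => by
      funext l
      rcases eq_or_ne l k with rfl | hl
      · simp
      · simp [hl, hx]
    have hp : φ i (x (Sum.inr 0)) = p := by simpa using hx (Sum.inr 0)
    rw [← hp, ← map_smul (φ i), key, key, classOf_eq H d, classOf_eq H d,
      ← map_smul, MultilinearMap.map_update_smul]

open Classical in
theorem tmap_exact {i : ι} (y : ⨂[A] _ : Fin d, Bi i) (hy : SymTen.tmap A d (φ i) y = 0) :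
    ∃ (j : ι) (h : i ≤ j), SymTen.tmap A d (t i j h) y = 0 := by
  have key : ∀ y : ⨂[A] _ : Fin d, Bi i,
      PiTensorProduct.lift (classMul H d) (SymTen.tmap A d (φ i) y) =
        Module.DirectLimit.of A ι (fun i => ⨂[A] _ : Fin d, Bi i)
          (fun i j h => (SymTen.tmap A d (t i j h)).toLinearMap) i y := by
    intro y
    induction y using PiTensorProduct.induction_on with
    | smul_tprod r x =>
      rw [map_smul, map_smul, map_smul, SymTen.tmap_tprod, PiTensorProduct.lift.tprod]
      exact congrArg (r • ·) (classOf_eq H d x)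
    | add x y hx hy => rw [map_add, map_add, map_add, hx, hy]
  haveI := directedSystem H d
  have h0 := key y
  rw [hy, map_zero] at h0
  exact Module.DirectLimit.of.zero_exact h0.symm

theorem tmap_surj (z : ⨂[A] _ : Fin d, B) :
    ∃ (i : ι) (y : ⨂[A] _ : Fin d, Bi i), SymTen.tmap A d (φ i) y = z := by
  induction z using PiTensorProduct.induction_on with
  | smul_tprod r b =>
    obtain ⟨i, x, hx⟩ := exists_lift H b
    exact ⟨i, r • PiTensorProduct.tprod A x, by simp [hx]⟩
  | add z w hz hw =>
    obtain ⟨i, y, rfl⟩ := hz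
    obtain ⟨j, y', rfl⟩ := hw
    obtain ⟨m, him, hjm⟩ := directed_of (fun i j => i ≤ j) i j
    refine ⟨m, SymTen.tmap A d (t i m him) y + SymTen.tmap A d (t j m hjm) y', ?_⟩
    rw [map_add, tmap_comp, tmap_comp, H.comp, H.comp]

theorem TS_isDirectLimit :
    (∀ z : SymTen.TS A B d, ∃ (i : ι) (y : SymTen.TS A (Bi i) d), SymTen.TSmap A d (φ i) y = z) ∧
      ∀ (i : ι) (y : SymTen.TS A (Bi i) d), SymTen.TSmap A d (φ i) y = 0 →
        ∃ (j : ι) (h : i ≤ j), SymTen.TSmap A d (t i j h) y = 0 := by
  refine ⟨fun z => ?_, fun i y hy => ?_⟩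
  · obtain ⟨i, y, hy⟩ := tmap_surj H d z.1
    choose j hj h0 using fun σ : Equiv.Perm (Fin d) => tmap_exact H d
      (PiTensorProduct.reindex A (fun _ : Fin d => Bi i) σ y - y)
      (by rw [map_sub, SymTen.tmap_reindex, hy, z.2 σ, sub_self])
    obtain ⟨m, hm⟩ := Finite.exists_le j
    have him : i ≤ m := (hj 1).trans (hm 1)
    refine ⟨m, ⟨SymTen.tmap A d (t i m him) y, fun σ => ?_⟩, Subtype.ext ?_⟩
    · rw [← SymTen.tmap_reindex, ← sub_eq_zero, ← map_sub]
      have h := congrArg (SymTen.tmap A d (t (j σ) m (hm σ))) (h0 σ)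
      rwa [map_zero, tmap_comp, H.trans] at h
    · show SymTen.tmap A d (φ m) (SymTen.tmap A d (t i m him) y) = z.1
      rw [tmap_comp, H.comp, hy]
  · obtain ⟨j, h, h0⟩ := tmap_exact H d y.1 (congrArg Subtype.val hy)
    exact ⟨j, h, Subtype.ext h0⟩

end Groth.Agent.ZBSymTen.DirLim
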