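import Groth.Prelude.Def_SymTen
import Mathlib.RingTheory.GradedAlgebra.Basic
import Mathlib.RingTheory.Invariant.Basic
import Mathlib.RingTheory.Ideal.GoingUp
import Mathlib.RingTheory.MvPolynomial.Basic
import Mathlib.RingTheory.Finiteness.Defs
import Mathlib.RingTheory.LocalRing.ResidueField.Ideal

/-!
# Covering the symmetric product of a projective scheme by distinguished opens
-/

universe u

open scoped TensorProduct

namespace Groth.Agent.ZBSymTen.Cover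

variable {A B : Type u} [CommRing A] [CommRing B] [Algebra A B]
  (𝒜 : ℕ → Submodule A B) [GradedAlgebra 𝒜] {d : ℕ}

/-- The diagonal subalgebra of the tensor power. -/
noncomputable def Cc (d : ℕ) : Subalgebra A (⨂[A] _ : Fin d, B) :=
  Algebra.adjoin A {t | ∃ (k : ℕ) (b : Fin d → B), (∀ i, b i ∈ 𝒜 k) ∧ t = PiTensorProduct.tprod A b}

omit [GradedAlgebra 𝒜] in
theorem tprod_mem {k : ℕ} (b : Fin d → B) (hb : ∀ i, b i ∈ 𝒜 k) :
    PiTensorProduct.tprod A b ∈ Cc 𝒜 d :=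
  Algebra.subset_adjoin ⟨k, b, hb, rfl⟩

/-- A pure tensor of homogeneous elements of one degree, in the diagonal subalgebra. -/
noncomputable def pure {k : ℕ} (b : Fin d → B) (hb : ∀ i, b i ∈ 𝒜 k) : Cc 𝒜 d :=
  ⟨PiTensorProduct.tprod A b, tprod_mem 𝒜 b hb⟩

omit [GradedAlgebra 𝒜] in
theorem perm_mem (σ : Equiv.Perm (Fin d)) {t : ⨂[A] _ : Fin d, B} (ht : t ∈ Cc 𝒜 d) :
    SymTen.perm A B d σ t ∈ Cc 𝒜 d := by
  have h : Cc 𝒜 d ≤ (Cc 𝒜 d).comap (SymTen.perm A B d σ) :=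
    Algebra.adjoin_le fun x ⟨k, b, hb, hx⟩ => by
      show SymTen.perm A B d σ x ∈ Cc 𝒜 d
      rw [hx, SymTen.perm_tprod]
      exact tprod_mem 𝒜 _ fun i => hb _
  exact h ht

/-- Permutations acting on the diagonal subalgebra. -/
noncomputable def permC : Equiv.Perm (Fin d) →* (Cc 𝒜 d →+* Cc 𝒜 d) where
  toFun σ := ((SymTen.perm A B d σ).toRingHom.comp (Cc 𝒜 d).val.toRingHom).codRestrict _
    fun x => perm_mem 𝒜 σ x.2
  map_one' := RingHom.ext fun x => Subtype.ext (by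
    show SymTen.perm A B d 1 x.1 = x.1
    rw [SymTen.perm_apply, Equiv.Perm.one_def, PiTensorProduct.reindex_refl]
    rfl)
  map_mul' σ τ := RingHom.ext fun x => Subtype.ext (by
    show SymTen.perm A B d (σ * τ) x.1 = SymTen.perm A B d σ (SymTen.perm A B d τ x.1)
    induction x.1 using PiTensorProduct.induction_on with
    | smul_tprod r f =>
      rw [map_smul, map_smul, map_smul, SymTen.perm_tprod, SymTen.perm_tprod, SymTen.perm_tprod]
      rfl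
    | add x y hx hy => rw [map_add, hx, hy, map_add, map_add])

omit [GradedAlgebra 𝒜] in
theorem exists_pow_mem_span (Q : (⨂[A] _ : Fin d, B) → Prop) (D : Subalgebra A (⨂[A] _ : Fin d, B))
    (hD : D = Cc 𝒜 d ⊓ SymTen.TS A B d) (t : ⨂[A] _ : Fin d, B) (htD : t ∈ D)
    (key : ∀ (K : Type u) [Field K] (g : Cc 𝒜 d →+* K),
      g ⟨t, (hD ▸ htD : t ∈ Cc 𝒜 d ⊓ SymTen.TS A B d).1⟩ ≠ 0 →
      ∃ x : Cc 𝒜 d, Q x ∧ x.1 ∈ SymTen.TS A B d ∧ g x ≠ 0) :
    ∃ m : ℕ, 0 < m ∧ (⟨t, htD⟩ : D) ^ m ∈ Ideal.span {x : D | Q x} := by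
  subst hD
  by_contra hne
  push Not at hne
  set J : Ideal ↥(Cc 𝒜 d ⊓ SymTen.TS A B d) := Ideal.span {x | Q x.1} with hJ
  have hdisj : Disjoint (J : Set ↥(Cc 𝒜 d ⊓ SymTen.TS A B d))
      (Submonoid.powers (⟨t, htD⟩ : ↥(Cc 𝒜 d ⊓ SymTen.TS A B d))) := by
    rw [Set.disjoint_left]
    rintro x hx ⟨n, rfl⟩
    rcases Nat.eq_zero_or_pos n with rfl | hn
    · simp only [pow_zero, SetLike.mem_coe] at hx
      rw [← Ideal.eq_top_iff_one] at hx
      exact hne 1 one_pos (by rw [hx]; trivial)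
    · exact hne n hn hx
  obtain ⟨P, hP, hJP, hPdisj⟩ := Ideal.exists_le_prime_disjoint J _ hdisj
  have htP : (⟨t, htD⟩ : ↥(Cc 𝒜 d ⊓ SymTen.TS A B d)) ∉ P := fun h =>
    Set.disjoint_left.1 hPdisj h (Submonoid.mem_powers _)
  let _ : Algebra ↥(Cc 𝒜 d ⊓ SymTen.TS A B d) (Cc 𝒜 d) :=
    (Subalgebra.inclusion inf_le_left).toRingHom.toAlgebra
  let _ : MulSemiringAction (Equiv.Perm (Fin d)) (Cc 𝒜 d) :=
    MulSemiringAction.compHom _ (permC 𝒜)
  have : Algebra.IsInvariant ↥(Cc 𝒜 d ⊓ SymTen.TS A B d) (Cc 𝒜 d) (Equiv.Perm (Fin d)) :=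
    ⟨fun x hx => ⟨⟨x.1, x.2, fun σ => by
      rw [← SymTen.perm_apply]; exact congrArg Subtype.val (hx σ)⟩, Subtype.ext rfl⟩⟩
  have : Algebra.IsIntegral ↥(Cc 𝒜 d ⊓ SymTen.TS A B d) (Cc 𝒜 d) :=
    Algebra.IsInvariant.isIntegral _ _ (Equiv.Perm (Fin d))
  obtain ⟨Q', -, hQ, hQP⟩ := Ideal.exists_ideal_over_prime_of_isIntegral P (⊥ : Ideal (Cc 𝒜 d))
    (fun x hx => by
      have : x = 0 := Subtype.ext (congrArg Subtype.val (Ideal.mem_bot.1 hx) :)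
      rw [this]; exact zero_mem P)
  have hker : ∀ x : Cc 𝒜 d, (algebraMap (Cc 𝒜 d ⧸ Q') (FractionRing (Cc 𝒜 d ⧸ Q'))).comp
      (Ideal.Quotient.mk Q') x = 0 ↔ x ∈ Q' := fun x => by
    rw [RingHom.comp_apply, map_eq_zero_iff _ (IsFractionRing.injective _ _),
      Ideal.Quotient.eq_zero_iff_mem]
  obtain ⟨x, hxQ, hxT, hx0⟩ := key (FractionRing (Cc 𝒜 d ⧸ Q'))
    ((algebraMap (Cc 𝒜 d ⧸ Q') (FractionRing (Cc 𝒜 d ⧸ Q'))).comp (Ideal.Quotient.mk Q'))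
    (fun h => htP (by rw [← hQP]; exact (hker _).1 h))
  refine hx0 ((hker x).2 ?_)
  have hxP : (⟨x.1, x.2, hxT⟩ : ↥(Cc 𝒜 d ⊓ SymTen.TS A B d)) ∈ P :=
    hJP (Ideal.subset_span hxQ)
  rw [← hQP] at hxP
  exact hxP

/-! ### The functionals attached to a point -/

section Point

variable {K : Type u} [Field K] (g : Cc 𝒜 d →+* K)
  {b₀ : Fin d → B} (hb₀ : ∀ i, b₀ i ∈ 𝒜 1)

include hb₀ in
theorem pow_mem (n : ℕ) (i : Fin d) : b₀ i ^ n ∈ 𝒜 n := by
  simpa using SetLike.pow_mem_graded n (hb₀ i)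

include hb₀ in
theorem update_mem {n : ℕ} {f : B} (hf : f ∈ 𝒜 n) (i j : Fin d) :
    Function.update (fun l => b₀ l ^ n) i f j ∈ 𝒜 n := by
  rcases eq_or_ne j i with rfl | h
  · simpa
  · simpa [h] using pow_mem 𝒜 hb₀ n j

/-- The value at a point of a homogeneous element put in the `i`-th slot. -/
noncomputable def val (i : Fin d) {n : ℕ} (f : 𝒜 n) : K :=
  g (pure 𝒜 _ (fun j => update_mem 𝒜 hb₀ f.2 i j))

theorem g_pure_congr {k k' : ℕ} {b b' : Fin d → B} (hb : ∀ i, b i ∈ 𝒜 k) (hb' : ∀ i, b' i ∈ 𝒜 k')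
    (h : b = b') : g (pure 𝒜 b hb) = g (pure 𝒜 b' hb') := by
  subst h; rfl

theorem g_pure_mul {k k' : ℕ} {b b' : Fin d → B} (hb : ∀ i, b i ∈ 𝒜 k) (hb' : ∀ i, b' i ∈ 𝒜 k') :
    g (pure 𝒜 b hb) * g (pure 𝒜 b' hb') =
      g (pure 𝒜 (fun i => b i * b' i) fun i => SetLike.mul_mem_graded (hb i) (hb' i)) := by
  rw [← map_mul]
  exact congrArg g (Subtype.ext (by simp [pure, PiTensorProduct.tprod_mul_tprod]; rfl))

theorem val_add (i : Fin d) {n : ℕ} (f f' : 𝒜 n) :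
    val 𝒜 g hb₀ i (f + f') = val 𝒜 g hb₀ i f + val 𝒜 g hb₀ i f' := by
  rw [val, val, val, ← map_add]
  exact congrArg g (Subtype.ext (MultilinearMap.map_update_add _ _ _ _ _))

theorem val_smul (i : Fin d) {n : ℕ} (a : A) (f : 𝒜 n) :
    val 𝒜 g hb₀ i (a • f) = g (algebraMap A _ a) * val 𝒜 g hb₀ i f := by
  rw [val, val, ← map_mul]
  exact congrArg g (Subtype.ext ((MultilinearMap.map_update_smul _ _ _ _ _).trans
    (Algebra.smul_def a _)))

theorem val_zero (i : Fin d) {n : ℕ} : val 𝒜 g hb₀ i (0 : 𝒜 n) = 0 := by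
  have := val_add 𝒜 g hb₀ i (0 : 𝒜 n) 0
  simpa using this

theorem val_sum (i : Fin d) {n : ℕ} {ι : Type*} (s : Finset ι) (f : ι → 𝒜 n) :
    val 𝒜 g hb₀ i (∑ j ∈ s, f j) = ∑ j ∈ s, val 𝒜 g hb₀ i (f j) :=
  map_sum (AddMonoidHom.mk' (fun f : 𝒜 n => val 𝒜 g hb₀ i f) (val_add 𝒜 g hb₀ i)) f s

theorem val_mul (i : Fin d) {n m : ℕ} (f : 𝒜 n) (f' : 𝒜 m) :
    val 𝒜 g hb₀ i (⟨f.1 * f'.1, SetLike.mul_mem_graded f.2 f'.2⟩ : 𝒜 (n + m)) =
      val 𝒜 g hb₀ i f * val 𝒜 g hb₀ i f' := by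
  rw [val, val, val, g_pure_mul]
  refine g_pure_congr 𝒜 g _ _ (funext fun j => ?_)
  rcases eq_or_ne j i with rfl | h
  · simp
  · simp [h, pow_add]

theorem val_base (i : Fin d) :
    val 𝒜 g hb₀ i (⟨b₀ i, hb₀ i⟩ : 𝒜 1) = g (pure 𝒜 b₀ hb₀) := by
  refine g_pure_congr 𝒜 g _ _ (funext fun j => ?_)
  rcases eq_or_ne j i with rfl | h
  · simp
  · simp [h]

theorem prod_val {n : ℕ} (x : Fin d → 𝒜 n) (hd : 0 < d) :
    ∏ i, val 𝒜 g hb₀ i (x i) =
      g (pure 𝒜 (fun i => (x i).1) fun i => (x i).2) *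
        g (pure 𝒜 (fun i => b₀ i ^ n) fun i => pow_mem 𝒜 hb₀ n i) ^ (d - 1) := by
  simp only [val]
  rw [← map_prod, ← map_pow, ← map_mul]
  refine congrArg g (Subtype.ext ?_)
  simp only [pure, Subalgebra.coe_mul, SubmonoidClass.coe_pow, SubmonoidClass.coe_finsetProd]
  rw [← PiTensorProduct.tprod_prod, show (PiTensorProduct.tprod A fun i => b₀ i ^ n) ^ (d - 1) =
      ∏ _l ∈ Finset.range (d - 1), PiTensorProduct.tprod A fun i => b₀ i ^ n by simp,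
    ← PiTensorProduct.tprod_prod, PiTensorProduct.tprod_mul_tprod]
  refine congrArg (PiTensorProduct.tprod A) (funext fun j => ?_)
  simp only [Finset.prod_apply, Pi.mul_apply, Finset.prod_const, Finset.card_range, Pi.pow_apply]
  have he : ∀ i ∈ Finset.univ.erase j,
      Function.update (fun l => b₀ l ^ n) i (x i).1 j = b₀ j ^ n := fun i hi =>
    Function.update_of_ne (Finset.ne_of_mem_erase hi).symm _ _
  rw [← Finset.mul_prod_erase _ _ (Finset.mem_univ j), Function.update_self,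
    Finset.prod_congr rfl he, Finset.prod_const, Finset.card_erase_of_mem (Finset.mem_univ j),
    Finset.card_univ, Fintype.card_fin]

theorem g_pow_ne_zero (h₀ : g (pure 𝒜 b₀ hb₀) ≠ 0) :
    ∀ n, g (pure 𝒜 (fun i => b₀ i ^ n) fun i => pow_mem 𝒜 hb₀ n i) ≠ 0 := by
  intro n
  have h : g (pure 𝒜 (fun i => b₀ i ^ n) fun i => pow_mem 𝒜 hb₀ n i) =
      g (pure 𝒜 b₀ hb₀) ^ n := by
    rw [← map_pow]
    refine congrArg g (Subtype.ext ?_)
    simp only [pure, SubmonoidClass.coe_pow]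
    rw [show PiTensorProduct.tprod A b₀ ^ n =
        ∏ _l ∈ Finset.range n, PiTensorProduct.tprod A b₀ by simp, ← PiTensorProduct.tprod_prod]
    simp [Finset.prod_fn]
    rfl
  rw [h]
  exact pow_ne_zero n h₀

theorem g_tpow_ne_zero {n : ℕ} (f : 𝒜 n) (h : ∀ i, val 𝒜 g hb₀ i f ≠ 0) :
    g (pure 𝒜 (fun _ => f.1) fun _ => f.2) ≠ 0 := by
  rcases Nat.eq_zero_or_pos d with rfl | hd
  · have : pure 𝒜 (fun _ : Fin 0 => f.1) (fun _ => f.2) = 1 := Subtype.ext (by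
      rw [OneMemClass.coe_one, PiTensorProduct.one_def]
      exact congrArg (PiTensorProduct.tprod A) (funext fun i => i.elim0))
    rw [this, map_one]; exact one_ne_zero
  · intro h0
    have := prod_val 𝒜 g hb₀ (fun _ => f) hd
    rw [h0, zero_mul] at this
    exact Finset.prod_ne_zero_iff.2 (fun i _ => h i) this

end Point

end Groth.Agent.ZBSymTen.Cover
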